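import Groth.Agent.L23.ZMT.Main
import Groth.Agent.L23.QcCalc
import Groth.Agent.L23.FpqcDiag

/-!
# Limits of finite spaces that are isomorphisms over an open
-/

universe u

open CategoryTheory CategoryTheory.Limits AlgebraicGeometry Opposite AlgSp TopologicalSpace

set_option autoImplicit false
set_option linter.style.haveILetI false
set_option backward.isDefEq.respectTransparency false
set_option backward.isDefEq.respectTransparency.types false

noncomputable section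

namespace Groth.L23.ZMT

open Groth.L23.Norm Groth.L23.RelSpec Groth.L23.GlobSec

/-- A compact open of an affine scheme is a finite union of standard opens. -/
theorem exists_basicOpen_cover {V : Scheme.{u}} [IsAffine V] (U : V.Opens) (hU : IsCompact (U : Set V)) :
    ∃ β : Finset Γ(V, ⊤), U = ⨆ k : β, V.basicOpen k.1 := by
  classical
  obtain ⟨s, hs₁, hs₂⟩ := (Opens.isBasis_iff_cover.1 (isBasis_basicOpen V)) U
  obtain ⟨t, ht⟩ := hU.elim_finite_subcover (fun B : s => (B.1 : Set V)) (fun B => B.1.isOpen) (fun x hx => by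
    rw [hs₂] at hx
    obtain ⟨B, hB, hxB⟩ := Opens.mem_sSup.1 hx
    exact Set.mem_iUnion.2 ⟨⟨B, hB⟩, hxB⟩)
  choose g hg using fun B : s => hs₁ B.2
  refine ⟨t.image g, le_antisymm (fun x hx => ?_) (iSup_le fun k => ?_)⟩
  · obtain ⟨B, hB, hxB⟩ : ∃ B ∈ t, x ∈ B.1 := by simpa using ht hx
    exact Opens.mem_iSup.2 ⟨⟨g B, Finset.mem_image_of_mem _ hB⟩, by rw [hg B]; exact hxB⟩
  · obtain ⟨B, -, hB⟩ := Finset.mem_image.1 k.2
    rw [hs₂, ← hB, hg B]
    exact le_sSup B.2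

variable {S : Scheme.{u}} {X : Sp S} {Y : AlgSp.Space S} {f : X ⟶ Y.obj} {hfa : RepWith @IsAffineHom f}
  {c : Chart Y.obj} {hcs : RepWith @Surjective c.v}

/-- A system from a given stage on. -/
def sysFrom {Idx : Type u} [Preorder Idx] [IsDirected Idx (· ≤ ·)] (H : BunSys Idx hfa c hcs) (s₀ : Idx) :
    BunSys {s : Idx // s₀ ≤ s} hfa c hcs where
  B s := H.B s.1
  μ h := H.μ h
  μ_q h := H.μ_q h
  γ_μ h := H.γ_μ h
  μ_id s := H.μ_id s.1
  μ_comp h h' := H.μ_comp h h'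
  m h := H.m h
  m_p h := H.m_p h
  n_m h := H.n_m h
  surj x y := by
    obtain ⟨t, p, q, hp, hq⟩ := H.surj x y
    obtain ⟨r, h₀, ht⟩ := directed_of (· ≤ ·) s₀ t
    have h : ∀ z, (H.B r).π.hom ((H.τ ht).hom z) = (H.B t).π.hom z := fun z =>
      congrArg (fun φ : _ ⟶ Γ((hfa.1.pullback c.v).left, ⊤) => φ.hom z) (H.τ_π ht)
    exact ⟨⟨r, h₀⟩, (H.τ ht).hom p, (H.τ ht).hom q, (h p).trans hp, (h q).trans hq⟩

set_option maxHeartbeats 1600000 in
/-- A piece with enough relations is isomorphic to the given space over the open. -/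
theorem isIso_over_open {V : Sp S} {j : V ⟶ Y.obj} (hj : RepWith @IsOpenImmersion j) (B : Bun hfa c hcs)
    {ι : Type u} (r : ι → Γ(c.V.left, ⊤)) (hr : ∀ x, (hj.1.snd c.v).left.base x ∈ ⨆ k, c.V.left.basicOpen (r k))
    (hsurj : ∀ k y, ∃ (n : ℕ) (x : B.ring), B.π.hom x = B.π.hom (B.q.left.appTop.hom (r k)) ^ n * y)
    {Z : Sp S} {z : Z ⟶ B.V.obj} {W : Over S} {w : W ⟶ B.T} [IsClosedImmersion w.left]
    {wf : (yon S).obj W ⟶ Z} (sqW : IsPullback wf ((yon S).map w) z B.n) {h : X ⟶ Z} (hh : h ≫ z = B.g)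
    (hinj : ∀ k x, B.π.hom x = 0 → ∃ n : ℕ, w.left.appTop.hom (B.q.left.appTop.hom (r k) ^ n * x) = 0)
    (hta : RepWith @IsAffineHom (z ≫ B.p)) {PV : Sp S} {pv₁ : PV ⟶ X} {pv₂ : PV ⟶ V}
    (hPV : IsPullback pv₁ pv₂ f j) {Pi : Sp S} {q₁ : Pi ⟶ Z} {q₂ : Pi ⟶ V}
    (hPi : IsPullback q₁ q₂ (z ≫ B.p) j) (k : PV ⟶ Pi) (hk₁ : k ≫ q₁ = pv₁ ≫ h) (hk₂ : k ≫ q₂ = pv₂) : IsIso k := by
  haveI := B.aff
  haveI : IsAffine (hfa.1.pullback c.v).left := by
    haveI : IsAffineHom (hfa.1.snd c.v).left := repWith_snd hfa c.v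
    exact isAffine_of_isAffineHom (hfa.1.snd c.v).left
  haveI : IsAffine W.left := isAffine_of_isAffineHom w.left
  have hwsurj : Function.Surjective w.left.appTop.hom :=
    ((HasAffineProperty.iff_of_isAffine (P := @IsClosedImmersion)).1 ‹IsClosedImmersion w.left›).2
  obtain ⟨l₀, hl₁, hl₂⟩ := sqW.exists_lift (hfa.1.fst c.v ≫ h) ((yon S).map B.γ)
    (by rw [Category.assoc, hh, B.sqg.w])
  obtain ⟨l, rfl⟩ := (yon S).map_surjective l₀
  have hlw : l ≫ w = B.γ := (yon S).map_injective (by rw [Functor.map_comp]; exact hl₂)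
  have sqh : IsPullback (hfa.1.fst c.v) ((yon S).map l) h wf := by
    refine IsPullback.of_bot ?_ hl₁.symm sqW
    rw [← Functor.map_comp, hlw, hh]
    exact B.sqg
  have hzf : h ≫ z ≫ B.p = f := by rw [← Category.assoc, hh, B.fac]
  have sk : IsPullback pv₁ k h q₁ := by
    refine IsPullback.of_bot ?_ hk₁.symm hPi
    rw [hk₂, hzf]
    exact hPV
  have hha : RepWith @IsAffineHom h := by
    refine repWith_of_comp_diagonal (q := z ≫ B.p) (by rw [hzf]; exact hfa) (repWith_mono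
      (fun φ (_ : IsClosedImmersion φ) => inferInstanceAs (IsAffineHom φ)) ((isSeparatedMor_iff hta.1).2
      (repWith_mono (fun φ (_ : IsAffineHom φ) => inferInstanceAs (IsSeparated φ)) hta)))
  have hka : RepWith @IsAffineHom k := repWith_of_isPullback sk hha
  have hq₁ : RepWith @IsOpenImmersion q₁ := repWith_of_isPullback hPi.flip hj
  have hwe : RepWith @Etale wf := repWith_of_isPullback sqW.flip B.etale_n
  have hws : RepWith @Surjective wf := repWith_of_isPullback sqW.flip B.surjective_n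
  have sW' := hq₁.1.isPullback wf
  let u := hq₁.1.snd wf
  let wf' := hq₁.1.fst wf
  obtain ⟨Q, a, b, sQ⟩ : ∃ (Q : Over S) (a : Q ⟶ hfa.1.pullback c.v) (b : Q ⟶ hq₁.1.pullback wf),
      IsPullback a b l u := ⟨_, _, _, IsPullback.of_hasPullback l u⟩
  obtain ⟨a', ha₁, ha₂⟩ := sk.exists_lift ((yon S).map a ≫ hfa.1.fst c.v) ((yon S).map b ≫ wf') (by
    rw [Category.assoc, sqh.w, ← Functor.map_comp_assoc, sQ.w, Functor.map_comp_assoc, Category.assoc, ← sW'.w])
  have sQ' : IsPullback a' ((yon S).map b) k wf' := by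
    refine IsPullback.of_right ?_ ha₂ sk
    rw [ha₁, sW'.w]
    exact (sQ.map (yon S)).paste_horiz sqh
  have hφ : ∀ x, l.left.appTop.hom (w.left.appTop.hom x) = B.π.hom x := fun x => by
    show (w.left.appTop ≫ l.left.appTop).hom x = B.γ.left.appTop.hom x
    rw [← Scheme.Hom.comp_appTop, ← Over.comp_left, hlw]
  have hb : MorphismProperty.isomorphisms Scheme.{u} b.left := by
    refine isIso_pullback_of_le l.left (fun k => w.left.appTop.hom (B.q.left.appTop.hom (r k))) (fun k y => ?_)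
      (fun k x hx => ?_) (sQ.map (Over.forget S)) fun x => ?_
    · obtain ⟨n, x, hx⟩ := hsurj k y
      exact ⟨n, w.left.appTop.hom x, by rw [hφ, hφ]; exact hx⟩
    · obtain ⟨x, rfl⟩ := hwsurj x
      rw [hφ] at hx
      obtain ⟨n, hn⟩ := hinj k x hx
      exact ⟨n, by rw [← map_pow, ← map_mul]; exact hn⟩
    · obtain ⟨m, -, hm⟩ := (hj.1.isPullback c.v).exists_lift (wf' ≫ q₂) ((yon S).map (u ≫ w ≫ B.q)) (by
        rw [Category.assoc, ← hPi.w, ← Category.assoc, sW'.w, Functor.map_comp, Functor.map_comp, Category.assoc,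
          Category.assoc, Category.assoc, ← B.sq.w, reassoc_of% sqW.w])
      obtain ⟨m, rfl⟩ := (yon S).map_surjective m
      have hm' : m ≫ hj.1.snd c.v = u ≫ w ≫ B.q := (yon S).map_injective (by rw [Functor.map_comp]; exact hm)
      have hx : (hj.1.snd c.v).left.base (m.left.base x) = (w ≫ B.q).left.base (u.left.base x) :=
        congrArg (fun φ : hq₁.1.pullback wf ⟶ c.V => φ.left.base x) hm'
      have hmem := hr (m.left.base x)
      rw [hx] at hmem
      obtain ⟨k, hk⟩ := Opens.mem_iSup.1 hmem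
      refine Opens.mem_iSup.2 ⟨k, ?_⟩
      show u.left.base x ∈ W.left.basicOpen ((B.q.left.appTop ≫ w.left.appTop).hom (r k))
      rw [← Scheme.Hom.comp_appTop, ← Over.comp_left, ← Scheme.preimage_basicOpen_top]
      exact hk
  have hiso : RepWith (MorphismProperty.isomorphisms Scheme.{u}) k :=
    ChevGen.repWith_of_atlas hka.1 (repWith_of_isPullback sW'.flip hwe) (repWith_of_isPullback sW'.flip hws) sQ' hb
  exact Groth.L23.isIso_of_repWith_isomorphisms hiso

variable [QuasiSeparatedSpace ↥S]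

set_option maxHeartbeats 1600000 in
/-- Over a compact open where the space is finite of finite presentation, finitely many numerators and relations. -/
theorem exists_open_data {V : Sp S} {j : V ⟶ Y.obj} (hj : RepWith @IsOpenImmersion j)
    {PV : Sp S} {pv₁ : PV ⟶ X} {pv₂ : PV ⟶ V} (hPV : IsPullback pv₁ pv₂ f j) (hfin : RepWith @IsFinite pv₂)
    (hfp : RepWith @LocallyOfFinitePresentation pv₂) [IsAffine (hfa.1.pullback c.v).left] (r : Γ(c.V.left, ⊤))
    (hr : (c.V.left.basicOpen r : Set c.V.left) ⊆ Set.range (hj.1.snd c.v).left) :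
    ∃ G : Finset Γ((hfa.1.pullback c.v).left, ⊤), ∀ B : Bun hfa c hcs, (∀ g ∈ G, ∃ x, B.π.hom x = g) →
      (∀ y, ∃ (n : ℕ) (x : B.ring), B.π.hom x = B.π.hom (B.q.left.appTop.hom r) ^ n * y) ∧
      ∃ t : Finset B.ring, (∀ x ∈ t, B.π.hom x = 0) ∧
        ∀ x, B.π.hom x = 0 → ∃ n : ℕ, B.q.left.appTop.hom r ^ n * x ∈ Ideal.span (t : Set B.ring) := by
  let νc := hfa.1.snd c.v
  let eV := hj.1.snd c.v
  haveI : IsOpenImmersion eV.left := repWith_snd hj c.v
  let d := hfin.1.snd (hj.1.fst c.v)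
  haveI : LocallyOfFinitePresentation d.left := repWith_prop hfp (hfin.1.isPullback _)
  have sqQ := (hfin.1.isPullback (hj.1.fst c.v)).paste_horiz hPV
  rw [(hj.1.isPullback c.v).w] at sqQ
  obtain ⟨θ₀, hθ₁, hθ₂⟩ := (hfa.1.isPullback c.v).exists_lift _ ((yon S).map d ≫ (yon S).map eV)
    (by rw [Category.assoc]; exact sqQ.w)
  obtain ⟨θ, rfl⟩ := (yon S).map_surjective θ₀
  have sθ : IsPullback ((yon S).map θ) ((yon S).map d) ((yon S).map νc) ((yon S).map eV) :=
    IsPullback.of_right (by rw [hθ₁]; exact sqQ) hθ₂ (hfa.1.isPullback c.v)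
  have sθ' := (IsPullback.of_map (yon S) ((yon S).map_injective (by simpa using sθ.w)) sθ).map (Over.forget S)
  haveI : IsOpenImmersion θ.left := MorphismProperty.of_isPullback sθ'.flip ‹IsOpenImmersion eV.left›
  have hpre : (hfa.1.pullback c.v).left.basicOpen (νc.left.appTop.hom r) = νc.left ⁻¹ᵁ c.V.left.basicOpen r :=
    (Scheme.preimage_basicOpen_top _ _).symm
  let D := (hfa.1.pullback c.v).left.basicOpen (νc.left.appTop.hom r)
  haveI : IsAffine (D : Scheme.{u}) := (isAffineOpen_top _).basicOpen _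
  have hle : Set.range (D.ι ≫ νc.left) ⊆ Set.range eV.left := by
    rintro _ ⟨x, rfl⟩
    exact hr (hpre.le x.2)
  obtain ⟨ll, hl₁, hl₂⟩ := sθ'.exists_lift D.ι (IsOpenImmersion.lift eV.left (D.ι ≫ νc.left) hle)
    (IsOpenImmersion.lift_fac _ _ _).symm
  have hll : IsOpenImmersion ll := by
    haveI : IsOpenImmersion (ll ≫ θ.left) := by rw [show ll ≫ θ.left = D.ι from hl₁]; infer_instance
    exact IsOpenImmersion.of_comp ll θ.left
  have hfac : D.ι ≫ νc.left = ll ≫ (d ≫ eV).left := by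
    rw [Over.comp_left, ← Category.assoc, show ll ≫ d.left = _ from hl₂, IsOpenImmersion.lift_fac]
  haveI hv : LocallyOfFinitePresentation (d ≫ eV).left := by rw [Over.comp_left]; infer_instance
  obtain ⟨G, hG⟩ : ∃ G : Finset Γ((hfa.1.pullback c.v).left, ⊤), ∀ y, ∃ n : ℕ,
      νc.left.appTop.hom r ^ n * y ∈ Subring.closure (Set.range νc.left.appTop.hom ∪ (G : Set _)) := by
    refine exists_numerators _ D.ι.appTop.hom (νc.left.appTop.hom r) (away_ι _) ?_
    haveI := hll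
    have h := (HasRingHomProperty.iff_of_isAffine (P := @LocallyOfFiniteType)).1
      (show LocallyOfFiniteType (D.ι ≫ νc.left) by rw [hfac]; infer_instance)
    rwa [Scheme.Hom.comp_appTop] at h
  refine ⟨G, fun B hB => ?_⟩
  have hq : ∀ a, B.π.hom (B.q.left.appTop.hom a) = νc.left.appTop.hom a := fun a => by
    show (B.q.left.appTop ≫ B.γ.left.appTop).hom a = _
    rw [← Scheme.Hom.comp_appTop, ← Over.comp_left, Bun.γq]
  have hsurj : ∀ y, ∃ (n : ℕ) (x : B.ring), B.π.hom x = B.π.hom (B.q.left.appTop.hom r) ^ n * y := fun y => by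
    obtain ⟨n, hn⟩ := hG y
    have hle : Subring.closure (Set.range νc.left.appTop.hom ∪ (G : Set _)) ≤ B.π.hom.range := by
      rw [Subring.closure_le]
      rintro _ (⟨a, rfl⟩ | hg)
      · exact ⟨_, hq a⟩
      · exact hB _ hg
    obtain ⟨x, hx⟩ := hle hn
    exact ⟨n, x, by rw [hx, hq]⟩
  exact ⟨hsurj, exists_relations_of_lfp B _ (B.q.left.appTop.hom r) (hq r) ⟨ll, hll, hfac⟩ hv hsurj⟩

set_option maxHeartbeats 1600000 in
/-- An integral space, finite of finite presentation over a compact open, as a limit of finite spaces of finite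
presentation that agree with it over the open. -/
theorem exists_limit_iso_over (hX : IsAlgSpace X) (hf : RepWith @IsIntegralHom f) (hYqc : IsQuasiCompactSp Y.obj)
    (hYqs : IsQuasiSeparatedSp Y.obj) {V : AlgSp.Space S} {j : V.obj ⟶ Y.obj} (hj : RepWith @IsOpenImmersion j)
    (hVqc : IsQuasiCompactSp V.obj) {PV : Sp S} {pv₁ : PV ⟶ X} {pv₂ : PV ⟶ V.obj} (hPV : IsPullback pv₁ pv₂ f j)
    (hfin : IsFiniteMor pv₂) (hfp : IsFinitePresentationMor pv₂) :
    ∃ (I : Type u) (_ : Preorder I) (_ : IsDirected I (fun a b => a ≤ b)) (_ : Nonempty I) (D : Iᵒᵖ ⥤ Sp S)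
      (t : D ⟶ (Functor.const Iᵒᵖ).obj Y.obj) (cn : Cone D) (_ : IsLimit cn) (e : cn.pt ≅ X),
      (∀ i, IsAlgSpace (D.obj i)) ∧ (∀ (i j : Iᵒᵖ) (φ : i ⟶ j), IsAffineMor (D.map φ)) ∧
      (∀ i, IsFiniteMor (t.app i) ∧ IsFinitePresentationMor (t.app i)) ∧
      (∀ i, e.inv ≫ cn.π.app i ≫ t.app i = f) ∧
      (∀ (i : Iᵒᵖ) (Pi : Sp S) (q₁ : Pi ⟶ D.obj i) (q₂ : Pi ⟶ V.obj), IsPullback q₁ q₂ (t.app i) j →
        ∀ k : PV ⟶ Pi, k ≫ q₁ = pv₁ ≫ e.inv ≫ cn.π.app i → k ≫ q₂ = pv₂ → IsIso k) := by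
  classical
  have hfa : RepWith @IsAffineHom f := repWith_mono (fun φ (_ : IsIntegralHom φ) => inferInstanceAs (IsAffineHom φ)) hf
  have hfin' := Groth.L23.isFiniteMor_iff.1 hfin
  have hfp' : RepWith @LocallyOfFinitePresentation pv₂ := repWith_of_locP etLocal_lfp V.property hfin'.1 hfp.1
  obtain ⟨b₀⟩ := nonempty_atlas Y hYqc hYqs
  let c : Chart Y.obj := atlasChart b₀
  have hcs : RepWith @Surjective c.v := surjective_atlasChart b₀
  obtain ⟨Idx, _, _, _, H, hgen⟩ := exists_bunSys hfa hYqc hYqs c hcs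
  choose T hT using hgen
  haveI : IsIntegralHom (hfa.1.snd c.v).left := repWith_snd hf c.v
  haveI : IsAffine (hfa.1.pullback c.v).left := isAffine_of_isAffineHom (hfa.1.snd c.v).left
  haveI : IsOpenImmersion (hj.1.snd c.v).left := repWith_snd hj c.v
  have hjqc := qcMor_of_qc_source V.property Y.property hVqc hYqs j
  haveI : CompactSpace (hj.1.pullback c.v).left := by
    haveI := compactSpace_of_qcSp (hjqc (IsAlgSpace.yon_obj c.V) isQuasiCompactSp_of_compactSpace c.v _ _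
      (hj.1.isPullback c.v))
    exact (Points.schemeHomeo _).symm.compactSpace
  obtain ⟨β, hβ⟩ := exists_basicOpen_cover (hj.1.snd c.v).left.opensRange
    (isCompact_range (hj.1.snd c.v).left.continuous)
  choose G hG using fun k : β => exists_open_data (hfa := hfa) (hcs := hcs) hj hPV hfin' hfp' k.1
    ((le_iSup (fun k : β => c.V.left.basicOpen k.1) k).trans hβ.ge)
  obtain ⟨s₀, hs₀⟩ := exists_stage H (Finset.univ.biUnion G)
  let H' := sysFrom H s₀
  haveI : Nonempty {s : Idx // s₀ ≤ s} := ⟨⟨s₀, le_rfl⟩⟩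
  haveI : IsDirected {s : Idx // s₀ ≤ s} (· ≤ ·) := ⟨fun a b => by
    obtain ⟨r, h₁, h₂⟩ := directed_of (· ≤ ·) a.1 b.1
    exact ⟨⟨r, a.2.trans h₁⟩, h₁, h₂⟩⟩
  have hdata := fun (s : {s : Idx // s₀ ≤ s}) (k : β) => hG k (H.B s.1) fun g hg => by
    obtain ⟨x, hx⟩ := hs₀ g (Finset.mem_biUnion.2 ⟨k, Finset.mem_univ k, hg⟩)
    exact ⟨(H.τ s.2).hom x,
      (congrArg (fun φ : _ ⟶ Γ((hfa.1.pullback c.v).left, ⊤) => φ.hom x) (H.τ_π s.2)).trans hx⟩
  choose hsurj t ht₁ ht₂ using hdata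
  have hint : ∀ (s : Idx) (x : (H.B s).ring), ∃ p : Polynomial Γ(c.V.left, ⊤), p.Monic ∧
      (H.B s).π.hom (p.eval₂ (H.B s).q.left.appTop.hom x) = 0 := fun s x => by
    obtain ⟨p, hp1, hp2⟩ :=
      ((HasAffineProperty.iff_of_isAffine (P := @IsIntegralHom)).1 ‹IsIntegralHom _›).2 ((H.B s).π.hom x)
    refine ⟨p, hp1, ?_⟩
    rw [Polynomial.hom_eval₂, ← CommRingCat.hom_comp, ← Scheme.Hom.comp_appTop, ← Over.comp_left, Bun.γq]
    exact hp2
  choose p hpm hpz using hint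
  let good : ∀ s, Finset (H'.B s).ring := fun s =>
    ((T s.1).image fun x => (p s.1 x).eval₂ (H.B s.1).q.left.appTop.hom x) ∪ Finset.univ.biUnion (t s)
  obtain ⟨I, i1, i2, i3, D, tD, cn, hcn, e, hA, hB, hC, hE⟩ := H'.exists_limit hYqs good fun s x hx => by
    rcases Finset.mem_union.1 hx with hx | hx
    · obtain ⟨y, -, rfl⟩ := Finset.mem_image.1 hx
      exact hpz s.1 y
    · obtain ⟨k, -, hk⟩ := Finset.mem_biUnion.1 hx
      exact ht₁ s k x hk
  refine ⟨I, i1, i2, i3, D, tD, cn, hcn, e, hA, hB, fun i => ?_, hE, fun i => ?_⟩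
  · obtain ⟨s, z, W, w, fst, -, hta, -, hwc, hwl, sq, hgd, -⟩ := hC i
    haveI := hwl
    haveI := hwc
    haveI : LocallyOfFinitePresentation (H'.B s).q.left := (H.B s.1).lfp
    haveI := (H.B s.1).aff
    haveI : IsAffine W.left := isAffine_of_isAffineHom w.left
    have hfinW : IsFinite (w ≫ (H.B s.1).q).left := by
      refine (HasAffineProperty.iff_of_isAffine (P := @IsFinite)).2 ⟨inferInstance, ?_⟩
      rw [Over.comp_left, Scheme.Hom.comp_appTop]
      exact finite_of_monics _ _ ((HasAffineProperty.iff_of_isAffine (P := @IsClosedImmersion)).1 hwc).2 (T s.1)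
        (hT s.1) fun x hx => ⟨p s.1 x, hpm s.1 x,
          hgd _ (Finset.mem_union_left _ (Finset.mem_image_of_mem _ hx))⟩
    exact ⟨Groth.L23.isFiniteMor_iff.2 (ChevGen.repWith_of_atlas hta.1 c.etale hcs sq hfinW),
      fp_piece hcs hta sq (by rw [Over.comp_left]; infer_instance)⟩
  · obtain ⟨s, z, W, w, fst, htz, hta, -, hwc, -, -, hgd, sqW, hzg⟩ := hC i
    haveI := hwc
    intro Pi q₁ q₂ hPi k hk₁ hk₂
    rw [htz] at hPi hta
    refine isIso_over_open hj (H.B s.1) (fun k : β => k.1) (fun x => hβ.le ⟨x, rfl⟩) (hsurj s) sqW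
      ((Category.assoc _ _ _).trans hzg) (fun m x hx => ?_) hta hPV hPi k hk₁ hk₂
    obtain ⟨n, hn⟩ := ht₂ s m x hx
    refine ⟨n, ?_⟩
    have hle : Ideal.span (t s m : Set (H.B s.1).ring) ≤ RingHom.ker w.left.appTop.hom :=
      Ideal.span_le.2 fun y hy => hgd y (Finset.mem_union_right _ (Finset.mem_biUnion.2 ⟨m, Finset.mem_univ m, hy⟩))
    exact hle hn

end Groth.L23.ZMT
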