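import Mathlib.AlgebraicGeometry.AffineScheme
import Mathlib.AlgebraicGeometry.Morphisms.FinitePresentation
import Mathlib.RingTheory.Localization.Away.Basic
import Mathlib.RingTheory.FinitePresentation
import Mathlib.RingTheory.Localization.Ideal
import Mathlib.RingTheory.RingHom.FinitePresentation
import Mathlib.RingTheory.RingHom.FiniteType

/-!
# Maps of affine schemes that are isomorphisms over standard opens
-/

universe u

open CategoryTheory AlgebraicGeometry TopologicalSpace

set_option autoImplicit false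
set_option linter.style.haveILetI false
set_option backward.isDefEq.respectTransparency false
set_option backward.isDefEq.respectTransparency.types false

noncomputable section

namespace Groth.L23.ZMT

/-- Localizations of finitely generated algebras: finitely many numerators. -/
theorem exists_numerators {R B E : Type u} [CommRing R] [CommRing B] [CommRing E] (f : R →+* B) (i : B →+* E) (b : B)
    (hloc : letI := i.toAlgebra; IsLocalization.Away b E) (h : (i.comp f).FiniteType) :
    ∃ G : Finset B, ∀ y : B, ∃ n : ℕ, b ^ n * y ∈ Subring.closure (Set.range f ∪ (G : Set B)) := by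
  classical
  letI : Algebra R E := (i.comp f).toAlgebra
  letI := i.toAlgebra
  haveI := hloc
  obtain ⟨s, hs⟩ := (h : Algebra.FiniteType R E).out
  choose k g hg using fun e : E => IsLocalization.Away.surj b e
  refine ⟨insert b (s.image fun e => g e), fun y => ?_⟩
  let C := Subring.closure (Set.range f ∪ ((insert b (s.image fun e => g e) : Finset B) : Set B))
  have hb : b ∈ C := Subring.subset_closure (Or.inr (Finset.mem_insert_self _ _))
  have key : ∀ e : E, ∃ (n : ℕ) (z : B), z ∈ C ∧ e * i (b ^ n) = i z := fun e => by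
    have he : e ∈ Algebra.adjoin R (s : Set E) := hs ▸ Algebra.mem_top
    induction he using Algebra.adjoin_induction with
    | mem x hx =>
      refine ⟨k x, g x, Subring.subset_closure (Or.inr (Finset.mem_insert_of_mem (Finset.mem_image_of_mem _ hx))), ?_⟩
      rw [map_pow]
      exact hg x
    | algebraMap r => exact ⟨0, f r, Subring.subset_closure (Or.inl ⟨r, rfl⟩), by rw [pow_zero, map_one, mul_one]; rfl⟩
    | add x y _ _ hx hy =>
      obtain ⟨m, z, hz, ez⟩ := hx
      obtain ⟨n, w, hw, ew⟩ := hy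
      refine ⟨m + n, z * b ^ n + w * b ^ m, add_mem (mul_mem hz (pow_mem hb n)) (mul_mem hw (pow_mem hb m)), ?_⟩
      rw [map_add i, map_mul, map_mul, ← ez, ← ew, pow_add, map_mul]
      ring
    | mul x y _ _ hx hy =>
      obtain ⟨m, z, hz, ez⟩ := hx
      obtain ⟨n, w, hw, ew⟩ := hy
      refine ⟨m + n, z * w, mul_mem hz hw, ?_⟩
      rw [map_mul, ← ez, ← ew, pow_add, map_mul]
      ring
  obtain ⟨n, z, hz, ez⟩ := key (i y)
  rw [← map_mul] at ez
  obtain ⟨⟨c, m, rfl⟩, hc⟩ := (IsLocalization.eq_iff_exists (Submonoid.powers b) E).1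
    (show algebraMap B E (y * b ^ n) = algebraMap B E z from ez)
  refine ⟨m + n, ?_⟩
  rw [show b ^ (m + n) * y = b ^ m * (y * b ^ n) by ring, show b ^ m * (y * b ^ n) = b ^ m * z from hc]
  exact mul_mem (pow_mem hb m) hz

/-- Localizations of finitely presented algebras: finitely many relations. -/
theorem exists_relations {R A B E : Type u} [CommRing R] [CommRing A] [CommRing B] [CommRing E] (s : R →+* A)
    (π : A →+* B) (i : B →+* E) (a : A) (hloc : letI := i.toAlgebra; IsLocalization.Away (π a) E)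
    (hA : s.FinitePresentation) (hE : (i.comp (π.comp s)).FinitePresentation)
    (hsurj : ∀ y : B, ∃ (n : ℕ) (x : A), π x = π a ^ n * y) :
    ∃ t : Finset A, (∀ x ∈ t, π x = 0) ∧ ∀ x, π x = 0 → ∃ n : ℕ, a ^ n * x ∈ Ideal.span (t : Set A) := by
  classical
  letI : Algebra R A := s.toAlgebra
  haveI : Algebra.FinitePresentation R A := hA
  letI : Algebra R E := (i.comp (π.comp s)).toAlgebra
  haveI : Algebra.FinitePresentation R E := hE
  letI := i.toAlgebra
  haveI := hloc
  have hu : IsUnit ((i.comp π) a) := IsLocalization.Away.algebraMap_isUnit (π a)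
  let L := Localization.Away a
  let F : L →+* E := IsLocalization.Away.lift a hu
  have hF : ∀ x, F (algebraMap A L x) = i (π x) := fun x => IsLocalization.Away.lift_eq a hu x
  let Fa : L →ₐ[R] E :=
    { F with
      commutes' := fun r => by
        show F (algebraMap R L r) = _
        rw [IsScalarTower.algebraMap_apply R A L, hF]
        rfl }
  haveI : Algebra.FinitePresentation A L := IsLocalization.Away.finitePresentation a
  haveI : Algebra.FinitePresentation R L := Algebra.FinitePresentation.trans R A L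
  have hFs : Function.Surjective Fa := fun e => by
    obtain ⟨k, y, hy⟩ := IsLocalization.Away.surj (π a) e
    obtain ⟨n, x, hx⟩ := hsurj y
    refine ⟨IsLocalization.mk' L x (⟨a ^ (n + k), n + k, rfl⟩ : Submonoid.powers a), ?_⟩
    show F _ = e
    refine ((hu.pow (n + k)).mul_left_inj).1 ?_
    show F _ * i (π a) ^ (n + k) = e * i (π a) ^ (n + k)
    rw [← hF a, ← map_pow, ← map_pow, ← map_mul, IsLocalization.mk'_spec, hF, hx, map_mul, map_pow, pow_add,
      show i y = e * i (π a) ^ k from hy.symm, hF]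
    simp only [map_mul, map_pow]
    ring
  obtain ⟨σ, hσ⟩ := Algebra.FinitePresentation.ker_fG_of_surjective Fa hFs
  choose k g hg using fun z : L => IsLocalization.Away.surj a z
  have hm : ∀ z ∈ σ, ∃ m, π (a ^ m * g z) = 0 := fun z hz => by
    have h0 : i (π (g z)) = 0 := by
      rw [← hF, ← hg, map_mul, show F z = 0 from hσ.le (Submodule.subset_span hz), zero_mul]
    obtain ⟨⟨c, m, rfl⟩, hc⟩ := (IsLocalization.map_eq_zero_iff (Submonoid.powers (π a)) E _).1
      (show algebraMap B E (π (g z)) = 0 from h0)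
    exact ⟨m, by rw [map_mul, map_pow]; exact hc⟩
  choose! m hm using hm
  refine ⟨σ.image fun z => a ^ m z * g z, fun x hx => ?_, fun x hx => ?_⟩
  · obtain ⟨z, hz, rfl⟩ := Finset.mem_image.1 hx
    exact hm z hz
  let T : Ideal A := Ideal.span ((σ.image fun z => a ^ m z * g z : Finset A) : Set A)
  have hle : RingHom.ker Fa.toRingHom ≤ T.map (algebraMap A L) := by
    rw [← hσ, Ideal.span_le]
    intro z hz
    refine (Ideal.unit_mul_mem_iff_mem _ ((IsLocalization.Away.algebraMap_isUnit (S := L) a).pow (m z + k z))).1 ?_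
    rw [show algebraMap A L a ^ (m z + k z) * z = algebraMap A L (a ^ m z * g z) by
      rw [map_mul, map_pow, ← hg, pow_add, mul_assoc, mul_comm z]]
    exact Ideal.mem_map_of_mem _ (Ideal.subset_span (Finset.mem_image_of_mem _ hz))
  have hx' : algebraMap A L x ∈ T.map (algebraMap A L) := hle (by
    show F (algebraMap A L x) = 0
    rw [hF, hx, map_zero])
  obtain ⟨⟨⟨t, ht⟩, ⟨c, n, rfl⟩⟩, hn⟩ := (IsLocalization.mem_map_algebraMap_iff (Submonoid.powers a) L).1 hx'
  rw [← map_mul] at hn
  obtain ⟨⟨c', n', rfl⟩, hn'⟩ := (IsLocalization.eq_iff_exists (Submonoid.powers a) L).1 hn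
  refine ⟨n' + n, ?_⟩
  rw [show a ^ (n' + n) * x = a ^ n' * (x * a ^ n) by ring, show a ^ n' * (x * a ^ n) = a ^ n' * t from hn']
  exact T.mul_mem_left _ ht

variable {X W : Scheme.{u}} [IsAffine X] [IsAffine W]

theorem isIso_of_bijective_appTop (f : X ⟶ W) (h : Function.Bijective f.appTop.hom) : IsIso f := by
  haveI : IsIso f.appTop := (ConcreteCategory.isIso_iff_bijective _).2 h
  rw [show f = X.isoSpec.hom ≫ Spec.map f.appTop ≫ W.isoSpec.inv by
    rw [← Category.assoc, Scheme.isoSpec_hom_naturality, Category.assoc, Iso.hom_inv_id, Category.comp_id] ]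
  infer_instance

/-- A morphism of affine schemes is an isomorphism over a standard open if it is one on localizations. -/
theorem isIso_restrict_basicOpen (w : X ⟶ W) (c : Γ(W, ⊤))
    (hsurj : ∀ y, ∃ (n : ℕ) (x : Γ(W, ⊤)), w.appTop.hom x = w.appTop.hom c ^ n * y)
    (hinj : ∀ x, w.appTop.hom x = 0 → ∃ n : ℕ, c ^ n * x = 0) : IsIso (w ∣_ W.basicOpen c) := by
  haveI : IsAffine (W.basicOpen c : Scheme.{u}) := (isAffineOpen_top W).basicOpen c
  have hpre : w ⁻¹ᵁ W.basicOpen c = X.basicOpen (w.appTop.hom c) := Scheme.preimage_basicOpen_top w c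
  haveI : IsAffine (w ⁻¹ᵁ W.basicOpen c : Scheme.{u}) := by
    rw [hpre]; exact (isAffineOpen_top X).basicOpen _
  have key : ∀ (V : X.Opens) (e : V ≤ w ⁻¹ᵁ W.basicOpen c), V = X.basicOpen (w.appTop.hom c) →
      Function.Bijective (w.appLE (W.basicOpen c) V e).hom := by
    rintro V e rfl
    let ρW := (W.presheaf.map (homOfLE (le_top : W.basicOpen c ≤ ⊤)).op).hom
    let ρX := (X.presheaf.map (homOfLE (le_top : X.basicOpen (w.appTop.hom c) ≤ ⊤)).op).hom
    let α := (w.appLE (W.basicOpen c) _ e).hom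
    have hα : ∀ x, α (ρW x) = ρX (w.appTop.hom x) := fun x => by
      show ((W.presheaf.map _) ≫ w.appLE _ _ e).hom x = (w.app ⊤ ≫ X.presheaf.map _).hom x
      rw [Scheme.Hom.map_appLE, Scheme.Hom.app_eq_appLE, Scheme.Hom.appLE_map]
    letI := ρW.toAlgebra
    letI := ρX.toAlgebra
    haveI : IsLocalization.Away c Γ(W, W.basicOpen c) := (isAffineOpen_top W).isLocalization_basicOpen c
    haveI : IsLocalization.Away (w.appTop.hom c) Γ(X, X.basicOpen (w.appTop.hom c)) :=
      (isAffineOpen_top X).isLocalization_basicOpen _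
    have huc : IsUnit (ρX (w.appTop.hom c)) := IsLocalization.Away.algebraMap_isUnit (w.appTop.hom c)
    refine ⟨(injective_iff_map_eq_zero α).2 fun z hz => ?_, fun e' => ?_⟩
    · obtain ⟨k, x, hx⟩ := IsLocalization.Away.surj c z
      have h0 : ρX (w.appTop.hom x) = 0 := by
        rw [← hα, show ρW x = z * ρW c ^ k from hx.symm, map_mul, hz, zero_mul]
      obtain ⟨⟨_, m, rfl⟩, hm⟩ := (IsLocalization.map_eq_zero_iff (Submonoid.powers (w.appTop.hom c))
        Γ(X, X.basicOpen (w.appTop.hom c)) _).1 h0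
      obtain ⟨n, hn⟩ := hinj (c ^ m * x) (by rw [map_mul, map_pow]; exact hm)
      have hu : IsUnit (ρW c ^ (n + m) * ρW c ^ k) :=
        ((IsLocalization.Away.algebraMap_isUnit c).pow _).mul ((IsLocalization.Away.algebraMap_isUnit c).pow _)
      refine hu.mul_right_eq_zero.1 ?_
      rw [mul_assoc, mul_comm _ z, show z * ρW c ^ k = ρW x from hx, ← map_pow, ← map_mul,
        show c ^ (n + m) * x = c ^ n * (c ^ m * x) by ring, hn, map_zero]
    · obtain ⟨k, y, hy⟩ := IsLocalization.Away.surj (w.appTop.hom c) e'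
      obtain ⟨n, x, hx⟩ := hsurj y
      refine ⟨IsLocalization.mk' Γ(W, W.basicOpen c) x (⟨c ^ (n + k), n + k, rfl⟩ : Submonoid.powers c), ?_⟩
      refine ((huc.pow (n + k)).mul_left_inj).1 ?_
      have h1 : α (IsLocalization.mk' Γ(W, W.basicOpen c) x (⟨c ^ (n + k), n + k, rfl⟩ : Submonoid.powers c)) *
          α (ρW (c ^ (n + k))) = α (ρW x) := by
        rw [← map_mul]
        exact congrArg α (IsLocalization.mk'_spec _ x (⟨c ^ (n + k), n + k, rfl⟩ : Submonoid.powers c))
      rw [hα, hα, map_pow w.appTop.hom, map_pow ρX, hx, map_mul ρX, map_pow ρX,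
        show ρX y = e' * ρX (w.appTop.hom c) ^ k from hy.symm] at h1
      rw [h1, pow_add]
      ring
  refine isIso_of_bijective_appTop _ ?_
  rw [Scheme.Hom.appTop, morphismRestrict_app']
  have key' : ∀ (U : W.Opens) (V : X.Opens) (e : V ≤ w ⁻¹ᵁ U), U = W.basicOpen c → V = w ⁻¹ᵁ U →
      Function.Bijective (w.appLE U V e).hom := by
    rintro _ V e rfl rfl
    exact key _ e hpre
  exact key' _ _ _ (by simp) (by simp)

/-- A morphism of affine schemes is an isomorphism over a union of standard opens if it is one on localizations. -/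
theorem isIso_restrict_iSup (w : X ⟶ W) {ι : Type u} (c : ι → Γ(W, ⊤))
    (hsurj : ∀ k y, ∃ (n : ℕ) (x : Γ(W, ⊤)), w.appTop.hom x = w.appTop.hom (c k) ^ n * y)
    (hinj : ∀ k x, w.appTop.hom x = 0 → ∃ n : ℕ, c k ^ n * x = 0) :
    IsIso (w ∣_ ⨆ k, W.basicOpen (c k)) := by
  let V : W.Opens := ⨆ k, W.basicOpen (c k)
  show MorphismProperty.isomorphisms Scheme.{u} (w ∣_ V)
  refine (IsZariskiLocalAtTarget.iff_of_iSup_eq_top (P := MorphismProperty.isomorphisms Scheme.{u})
    (fun k => V.ι ⁻¹ᵁ W.basicOpen (c k)) ?_).2 fun k => ?_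
  · rw [← Scheme.Hom.preimage_iSup]
    exact Scheme.Opens.ι_preimage_self V
  · refine ((MorphismProperty.isomorphisms Scheme.{u}).arrow_mk_iso_iff (morphismRestrictRestrict _ _ _)).2 ?_
    have : V.ι ''ᵁ V.ι ⁻¹ᵁ W.basicOpen (c k) = W.basicOpen (c k) := by
      rw [Scheme.Hom.image_preimage_eq_opensRange_inf, Scheme.Opens.opensRange_ι, inf_eq_right]
      exact le_iSup (fun k => W.basicOpen (c k)) k
    rw [this]
    exact isIso_restrict_basicOpen w (c k) (hsurj k) (hinj k)

/-- A map that is an isomorphism over standard opens is one after base change along an open inside them. -/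
theorem isIso_pullback_of_le (l : X ⟶ W) {ι : Type u} (c : ι → Γ(W, ⊤))
    (hsurj : ∀ k y, ∃ (n : ℕ) (x : Γ(W, ⊤)), l.appTop.hom x = l.appTop.hom (c k) ^ n * y)
    (hinj : ∀ k x, l.appTop.hom x = 0 → ∃ n : ℕ, c k ^ n * x = 0) {Q W' : Scheme.{u}} {a : Q ⟶ X} {b : Q ⟶ W'}
    {v : W' ⟶ W} (sq : CategoryTheory.IsPullback a b l v) (hv : ∀ x, v.base x ∈ ⨆ k, W.basicOpen (c k)) : IsIso b := by
  let V : W.Opens := ⨆ k, W.basicOpen (c k)
  have hiso := isIso_restrict_iSup l c hsurj hinj
  have hle : Set.range v ⊆ Set.range V.ι := by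
    rw [Scheme.Opens.range_ι]
    rintro _ ⟨x, rfl⟩
    exact hv x
  let v' : W' ⟶ V := IsOpenImmersion.lift V.ι v hle
  have hv' : v' ≫ V.ι = v := IsOpenImmersion.lift_fac _ _ _
  have sV := (isPullback_morphismRestrict l V).flip
  obtain ⟨a', ha1, ha2⟩ := sV.exists_lift a (b ≫ v') (by rw [Category.assoc, hv', sq.w])
  have sQ : CategoryTheory.IsPullback a' b (l ∣_ V) v' := by
    refine CategoryTheory.IsPullback.of_right ?_ ha2 sV
    rw [ha1, hv']
    exact sq
  exact MorphismProperty.of_isPullback (P := MorphismProperty.isomorphisms Scheme.{u}) sQ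
    (show MorphismProperty.isomorphisms Scheme.{u} (l ∣_ V) from hiso)

/-- Open immersions from a union of standard opens. -/
theorem isOpenImmersion_restrict {U : Scheme.{u}} (e : U ⟶ X) [IsOpenImmersion e] (w : X ⟶ W)
    {ι : Type u} (c : ι → Γ(W, ⊤)) (hU : e.opensRange = ⨆ k, X.basicOpen (w.appTop.hom (c k)))
    (hsurj : ∀ k y, ∃ (n : ℕ) (x : Γ(W, ⊤)), w.appTop.hom x = w.appTop.hom (c k) ^ n * y)
    (hinj : ∀ k x, w.appTop.hom x = 0 → ∃ n : ℕ, c k ^ n * x = 0) : IsOpenImmersion (e ≫ w) := by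
  let V : W.Opens := ⨆ k, W.basicOpen (c k)
  have hV : w ⁻¹ᵁ V = e.opensRange := by
    rw [hU, Scheme.Hom.preimage_iSup]
    simp only [Scheme.preimage_basicOpen_top]
  have hiso : IsIso (w ∣_ V) := isIso_restrict_iSup w c hsurj hinj
  have he : e = e.isoOpensRange.hom ≫ (X.isoOfEq hV.symm).hom ≫ (w ⁻¹ᵁ V).ι := by
    rw [Scheme.isoOfEq_hom_ι, Scheme.Hom.isoOpensRange_hom_ι]
  rw [he, Category.assoc, Category.assoc, ← morphismRestrict_ι]
  infer_instance

end Groth.L23.ZMT
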