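import Groth.Agent.L23.RelSpec.AffineLim
import Groth.Agent.L23.ZMT.Alg
import Groth.Agent.L23.NormQF

/-!
# The main theorem of Zariski with a finite target
-/

universe u

open CategoryTheory CategoryTheory.Limits AlgebraicGeometry Opposite AlgSp TopologicalSpace

set_option autoImplicit false
set_option linter.style.haveILetI false
set_option backward.isDefEq.respectTransparency false
set_option backward.isDefEq.respectTransparency.types false

noncomputable section

namespace Groth.L23.ZMT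

open Groth.L23.Norm Groth.L23.RelSpec Groth.L23.GlobSec

theorem away_ι {V : Scheme.{u}} [IsAffine V] (b : Γ(V, ⊤)) :
    letI := (V.basicOpen b).ι.appTop.hom.toAlgebra
    IsLocalization.Away b Γ((V.basicOpen b : Scheme.{u}), ⊤) := by
  letI := (V.presheaf.map (homOfLE (le_top : V.basicOpen b ≤ ⊤)).op).hom.toAlgebra
  haveI : IsLocalization.Away b Γ(V, V.basicOpen b) := (isAffineOpen_top V).isLocalization_basicOpen b
  letI := (V.basicOpen b).ι.appTop.hom.toAlgebra
  let e : Γ(V, V.basicOpen b) ≃+* Γ((V.basicOpen b : Scheme.{u}), ⊤) :=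
    (V.basicOpen b).topIso.symm.commRingCatIsoToRingEquiv
  refine IsLocalization.isLocalization_of_algEquiv (Submonoid.powers b) (AlgEquiv.ofRingEquiv (f := e) fun x => ?_)
  show (V.presheaf.map (homOfLE le_top).op ≫ (V.basicOpen b).topIso.inv).hom x = (V.basicOpen b).ι.appTop.hom x
  rw [Scheme.Opens.ι_appTop, Scheme.Opens.topIso_inv, ← Functor.map_comp]
  rfl

variable {S : Scheme.{u}}

theorem exists_stage {X : Sp S} {Y : AlgSp.Space S} {f : X ⟶ Y.obj} {hfa : RepWith @IsAffineHom f}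
    {c : Chart Y.obj} {hcs : RepWith @Surjective c.v} {Idx : Type u} [Preorder Idx] [IsDirected Idx (· ≤ ·)]
    [Nonempty Idx] (H : BunSys Idx hfa c hcs) (G : Finset Γ((hfa.1.pullback c.v).left, ⊤)) :
    ∃ s, ∀ g ∈ G, ∃ x, (H.B s).π.hom x = g := by
  classical
  induction G using Finset.induction with
  | empty => exact ⟨Classical.arbitrary Idx, fun g hg => absurd hg (Finset.notMem_empty g)⟩
  | insert a G ha ih =>
    obtain ⟨s, hs⟩ := ih
    obtain ⟨t, p, -, hp, -⟩ := H.surj a a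
    obtain ⟨r, hsr, htr⟩ := directed_of (· ≤ ·) s t
    refine ⟨r, fun g hg => ?_⟩
    rcases Finset.mem_insert.1 hg with rfl | hg
    · exact ⟨(H.τ htr).hom p,
        (congrArg (fun φ : _ ⟶ Γ((hfa.1.pullback c.v).left, ⊤) => φ.hom p) (H.τ_π htr)).trans hp⟩
    · obtain ⟨x, hx⟩ := hs g hg
      exact ⟨(H.τ hsr).hom x,
        (congrArg (fun φ : _ ⟶ Γ((hfa.1.pullback c.v).left, ⊤) => φ.hom x) (H.τ_π hsr)).trans hx⟩

set_option maxHeartbeats 800000 in
/-- An open piece of an integral space sits openly in a finite piece of a bundle. -/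
theorem exists_open_of_piece {X X' : Sp S} {Y : AlgSp.Space S} {ν : X' ⟶ Y.obj} {hνa : RepWith @IsAffineHom ν}
    {c : Chart Y.obj} {hcs : RepWith @Surjective c.v} (B : Bun hνa c hcs) {f' : X ⟶ X'}
    (hfo : RepWith @IsOpenImmersion f') (hqc : CompactSpace (hfo.1.pullback (hνa.1.fst c.v)).left)
    {ι : Type u} (a : ι → B.ring)
    (hU : haveI := repWith_snd hfo (hνa.1.fst c.v); (hfo.1.snd (hνa.1.fst c.v)).left.opensRange =
      ⨆ k, (hνa.1.pullback c.v).left.basicOpen (B.π.hom (a k)))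
    (hsurj : ∀ k y, ∃ (n : ℕ) (x : B.ring), B.π.hom x = B.π.hom (a k) ^ n * y)
    (T : Finset B.ring) (hT : ∀ x, x ∈ Subring.closure (Set.range B.q.left.appTop.hom ∪ (T : Set B.ring)))
    {Z : Sp S} {i : Z ⟶ B.V.obj} [Mono i] (hta : RepWith @IsAffineHom (i ≫ B.p)) {W : Over S} [IsAffine W.left]
    {w : W ⟶ B.T} [IsClosedImmersion w.left] {wf : (yon S).obj W ⟶ Z}
    (sqW : IsPullback wf ((yon S).map w) i B.n)
    (hker : ∀ x, w.left.appTop.hom x = 0 → B.π.hom x = 0)
    (hinj : ∀ k x, B.π.hom x = 0 → ∃ n : ℕ, w.left.appTop.hom (a k ^ n * x) = 0)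
    (hmonic : ∀ x ∈ T, ∃ p : Polynomial Γ(c.V.left, ⊤), p.Monic ∧
      w.left.appTop.hom (p.eval₂ B.q.left.appTop.hom x) = 0) :
    ∃ h : X' ⟶ Z, h ≫ i = B.g ∧ RepWith @IsOpenImmersion (f' ≫ h) ∧ IsQuasiCompactMor (f' ≫ h) ∧
      IsFiniteMor (i ≫ B.p) := by
  have hwsurj : Function.Surjective w.left.appTop.hom :=
    ((HasAffineProperty.iff_of_isAffine (P := @IsClosedImmersion)).1 ‹IsClosedImmersion w.left›).2
  haveI : IsAffine (hνa.1.pullback c.v).left := by
    haveI : IsAffineHom (hνa.1.snd c.v).left := repWith_snd hνa c.v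
    exact isAffine_of_isAffineHom (hνa.1.snd c.v).left
  haveI hXepi : Epi (hνa.1.fst c.v) := epi_of_repWith _ (repWith_of_isPullback (hνa.1.isPullback c.v).flip c.etale)
    (repWith_of_isPullback (hνa.1.isPullback c.v).flip hcs)
  obtain ⟨l, hl⟩ := exists_factor_affine w hwsurj B.γ hker
  haveI := effectiveEpi_of_epi (hνa.1.fst c.v)
  have hl' : ((yon S).map l ≫ wf) ≫ i = hνa.1.fst c.v ≫ B.g := by
    rw [Category.assoc, sqW.w, ← Functor.map_comp_assoc, hl, B.sqg.w]
  let h : X' ⟶ Z := EffectiveEpi.desc (hνa.1.fst c.v) ((yon S).map l ≫ wf) fun g₁ g₂ e => by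
    rw [← cancel_mono i, Category.assoc g₁, Category.assoc g₂, hl', reassoc_of% e]
  have hh : h ≫ i = B.g := by rw [← cancel_epi (hνa.1.fst c.v), EffectiveEpi.fac_assoc, hl']
  have sqh : IsPullback (hνa.1.fst c.v) ((yon S).map l) h wf := by
    refine IsPullback.of_bot ?_ (EffectiveEpi.fac _ _ _) sqW
    rw [← Functor.map_comp, hl, hh]
    exact B.sqg
  have hha : RepWith @IsAffineHom h := by
    refine repWith_of_comp_diagonal (q := i ≫ B.p) ?_ (repWith_mono
      (fun φ (_ : IsClosedImmersion φ) => inferInstanceAs (IsAffineHom φ)) ((isSeparatedMor_iff hta.1).2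
      (repWith_mono (fun φ (_ : IsAffineHom φ) => inferInstanceAs (IsSeparated φ)) hta)))
    rw [← Category.assoc, hh, B.fac]
    exact hνa
  let e := hfo.1.snd (hνa.1.fst c.v)
  haveI : IsOpenImmersion e.left := repWith_snd hfo _
  have sqj := (hfo.1.isPullback (hνa.1.fst c.v)).paste_vert sqh
  rw [← Functor.map_comp] at sqj
  have hwe : RepWith @Etale wf := repWith_of_isPullback sqW.flip B.etale_n
  have hws : RepWith @Surjective wf := repWith_of_isPullback sqW.flip B.surjective_n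
  have hjr : Representable (f' ≫ h) := by
    exact (repWith_comp (P := (⊤ : MorphismProperty Scheme.{u})) (repWith_mono (fun _ _ => trivial) hfo)
      (repWith_mono (fun _ _ => trivial) hha)).1
  have hφ : ∀ x, l.left.appTop.hom (w.left.appTop.hom x) = B.π.hom x := fun x => by
    show (w.left.appTop ≫ l.left.appTop).hom x = B.γ.left.appTop.hom x
    rw [← Scheme.Hom.comp_appTop, ← Over.comp_left, hl]
  have hopen : IsOpenImmersion (e ≫ l).left := by
    rw [Over.comp_left]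
    refine isOpenImmersion_restrict e.left l.left (fun k => w.left.appTop.hom (a k)) ?_ (fun k y => ?_) fun k x hx => ?_
    · simp only [hφ]
      exact hU
    · obtain ⟨n, x, hx⟩ := hsurj k y
      exact ⟨n, w.left.appTop.hom x, by rw [hφ, hφ]; exact hx⟩
    · obtain ⟨x, rfl⟩ := hwsurj x
      rw [hφ] at hx
      obtain ⟨n, hn⟩ := hinj k x hx
      exact ⟨n, by rw [← map_pow, ← map_mul]; exact hn⟩
  haveI := hqc
  have hqce : QuasiCompact (e ≫ l).left :=
    (HasAffineProperty.iff_of_isAffine (P := @QuasiCompact)).2 hqc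
  haveI := B.aff
  have hfin : IsFinite (w ≫ B.q).left := by
    refine (HasAffineProperty.iff_of_isAffine (P := @IsFinite)).2 ⟨inferInstance, ?_⟩
    rw [Over.comp_left, Scheme.Hom.comp_appTop]
    exact finite_of_monics _ _ hwsurj T hT hmonic
  have sqT : IsPullback wf ((yon S).map (w ≫ B.q)) (i ≫ B.p) c.v := by
    rw [Functor.map_comp]
    exact sqW.paste_vert B.sq
  exact ⟨h, hh, ChevGen.repWith_of_atlas hjr hwe hws sqj hopen,
    isQuasiCompactMor_of_repWith (ChevGen.repWith_of_atlas hjr hwe hws sqj hqce),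
    Groth.L23.isFiniteMor_iff.2 (ChevGen.repWith_of_atlas hta.1 c.etale hcs sqT hfin)⟩

variable [QuasiSeparatedSpace ↥S]

/-- What is needed of a stage. -/
structure Piece {X X' : Sp S} {Y : AlgSp.Space S} {ν : X' ⟶ Y.obj} {hνa : RepWith @IsAffineHom ν}
    {c : Chart Y.obj} {hcs : RepWith @Surjective c.v} (B : Bun hνa c hcs) {f' : X ⟶ X'}
    (hfo : RepWith @IsOpenImmersion f') : Type (u + 1) where
  ι : Type u
  [fin : Fintype ι]
  hPc : CompactSpace (hfo.1.pullback (hνa.1.fst c.v)).left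
  a : ι → B.ring
  hU : haveI := repWith_snd hfo (hνa.1.fst c.v); (hfo.1.snd (hνa.1.fst c.v)).left.opensRange =
    ⨆ k, (hνa.1.pullback c.v).left.basicOpen (B.π.hom (a k))
  hsurj : ∀ k y, ∃ (n : ℕ) (x : B.ring), B.π.hom x = B.π.hom (a k) ^ n * y
  T : Finset B.ring
  hT : ∀ x, x ∈ Subring.closure (Set.range B.q.left.appTop.hom ∪ (T : Set B.ring))
  p : B.ring → Polynomial Γ(c.V.left, ⊤)
  hpm : ∀ x, (p x).Monic
  hpz : ∀ x, B.π.hom ((p x).eval₂ B.q.left.appTop.hom x) = 0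

attribute [instance] Piece.fin

set_option maxHeartbeats 800000 in
theorem exists_finite_ft {X X' : Sp S} {Y : AlgSp.Space S} {ν : X' ⟶ Y.obj} {hνa : RepWith @IsAffineHom ν}
    {c : Chart Y.obj} {hcs : RepWith @Surjective c.v} (B : Bun hνa c hcs) {f' : X ⟶ X'}
    {hfo : RepWith @IsOpenImmersion f'} (D : Piece B hfo) :
    ∃ (T : AlgSp.Space S) (j : X ⟶ T.obj) (π : T.obj ⟶ Y.obj), j ≫ π = f' ≫ ν ∧ RepWith @IsOpenImmersion j ∧
      IsQuasiCompactMor j ∧ IsFiniteMor π := by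
  have hgq : (idealOfRep B.affine_g.1).IsQCoh := CutOut.idealOfRep_isQCoh
    (repWith_mono (fun φ (_ : IsAffineHom φ) => inferInstanceAs (QuasiCompact φ)) B.affine_g)
  obtain ⟨Z, hZ, i, hi⟩ := CutOut.exists_isCutOutBy B.V.property hgq
  obtain ⟨hcl, hval⟩ := id hi
  haveI : Mono i := mono_of_closedImmersion hcl
  have sqW := hcl.1.isPullback B.n
  haveI : IsClosedImmersion (hcl.1.snd B.n).left := repWith_prop hcl sqW
  haveI := B.aff
  haveI : IsAffine (hcl.1.pullback B.n).left := isAffine_of_isAffineHom (hcl.1.snd B.n).left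
  have hwker : ∀ x, (hcl.1.snd B.n).left.appTop.hom x = 0 ↔ B.π.hom x = 0 := fun x => by
    rw [← B.mem_ker_iff, ← hval]
    exact (mem_idealOfRep_iff hcl.1 B.U₀ sqW x).symm
  obtain ⟨h, hh, hjo, hjq, hfin⟩ := exists_open_of_piece B hfo D.hPc D.a D.hU D.hsurj D.T D.hT
    (repWith_comp (repWith_mono (fun φ (_ : IsClosedImmersion φ) => inferInstanceAs (IsAffineHom φ)) hcl) B.hp) sqW
    (fun x hx => (hwker x).1 hx) (fun k x hx => ⟨0, by rw [pow_zero, one_mul]; exact (hwker x).2 hx⟩)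
    (fun x _ => ⟨D.p x, D.hpm x, (hwker _).2 (D.hpz x)⟩)
  exact ⟨⟨Z, hZ⟩, f' ≫ h, i ≫ B.p, by rw [Category.assoc, ← Category.assoc h, hh, Bun.fac], hjo, hjq, hfin⟩

set_option maxHeartbeats 800000 in
theorem exists_finite_fp {X X' : Sp S} {Y : AlgSp.Space S} {ν : X' ⟶ Y.obj} {hνa : RepWith @IsAffineHom ν}
    {c : Chart Y.obj} {hcs : RepWith @Surjective c.v} (hYqs : IsQuasiSeparatedSp Y.obj) (B : Bun hνa c hcs)
    {f' : X ⟶ X'} {hfo : RepWith @IsOpenImmersion f'} (D : Piece B hfo) (t : D.ι → Finset B.ring)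
    (ht₁ : ∀ k, ∀ x ∈ t k, B.π.hom x = 0)
    (ht₂ : ∀ k x, B.π.hom x = 0 → ∃ n : ℕ, D.a k ^ n * x ∈ Ideal.span (t k : Set B.ring)) :
    ∃ (T : AlgSp.Space S) (j : X ⟶ T.obj) (π : T.obj ⟶ Y.obj), j ≫ π = f' ≫ ν ∧ RepWith @IsOpenImmersion j ∧
      IsQuasiCompactMor j ∧ IsFiniteMor π ∧ IsFinitePresentationMor π := by
  classical
  obtain ⟨jd, hjd, hjmem⟩ := B.exists_adm hYqs (D.T.image fun x => (D.p x).eval₂ B.q.left.appTop.hom x)
    (Finset.univ.biUnion t) (fun x hx => by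
      obtain ⟨y, -, rfl⟩ := Finset.mem_image.1 hx
      exact D.hpz y) fun x hx => by
      obtain ⟨k, -, hk⟩ := Finset.mem_biUnion.1 hx
      exact ht₁ k x hk
  obtain ⟨Z, i, W, w, wf, hZ, hmono, hta, -, hWa, hwc, hwl, sqW, -, hwker⟩ := B.exists_piece hYqs hjd
  haveI := hmono
  haveI := hWa
  haveI := hwc
  haveI := hwl
  haveI := B.lfp
  obtain ⟨h, hh, hjo, hjq, hfin⟩ := exists_open_of_piece B hfo D.hPc D.a D.hU D.hsurj D.T D.hT hta sqW
    (fun x hx => Bun.IsAdm.ker _ hjd x ((hwker x).1 hx))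
    (fun k x hx => by
      obtain ⟨n, hn⟩ := ht₂ k x hx
      refine ⟨n, (hwker _).2 ?_⟩
      exact Ideal.span_le.2 (fun y hy => hjmem y (Finset.mem_biUnion.2 ⟨k, Finset.mem_univ k, hy⟩)) hn)
    (fun x hx => ⟨D.p x, D.hpm x, (hwker _).2 (hjd.1 _ (Finset.mem_image_of_mem _ hx))⟩)
  have sqT : IsPullback wf ((yon S).map (w ≫ B.q)) (i ≫ B.p) c.v := by
    rw [Functor.map_comp]
    exact sqW.paste_vert B.sq
  exact ⟨⟨Z, hZ⟩, f' ≫ h, i ≫ B.p, by rw [Category.assoc, ← Category.assoc h, hh, Bun.fac], hjo, hjq, hfin,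
    fp_piece hcs hta sqT (by rw [Over.comp_left]; infer_instance)⟩

set_option maxHeartbeats 800000 in
theorem exists_relations_of_lfp {X' : Sp S} {Y : AlgSp.Space S} {ν : X' ⟶ Y.obj} {hνa : RepWith @IsAffineHom ν}
    {c : Chart Y.obj} {hcs : RepWith @Surjective c.v} (B : Bun hνa c hcs) {P : Over S} {v : P ⟶ c.V}
    [IsAffine (hνa.1.pullback c.v).left] (b : Γ((hνa.1.pullback c.v).left, ⊤)) (a : B.ring) (hab : B.π.hom a = b)
    (hD : ∃ ll : (((hνa.1.pullback c.v).left.basicOpen b : Scheme.{u})) ⟶ P.left, IsOpenImmersion ll ∧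
      ((hνa.1.pullback c.v).left.basicOpen b).ι ≫ (hνa.1.snd c.v).left = ll ≫ v.left)
    (hv : LocallyOfFinitePresentation v.left)
    (hsurj : ∀ y, ∃ (n : ℕ) (x : B.ring), B.π.hom x = B.π.hom a ^ n * y) :
    ∃ t : Finset B.ring, (∀ x ∈ t, B.π.hom x = 0) ∧
      ∀ x, B.π.hom x = 0 → ∃ n : ℕ, a ^ n * x ∈ Ideal.span (t : Set B.ring) := by
  haveI := B.aff
  haveI := B.lfp
  haveI : IsAffine ((hνa.1.pullback c.v).left.basicOpen b : Scheme.{u}) := (isAffineOpen_top _).basicOpen _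
  have hq : B.π.hom.comp B.q.left.appTop.hom = (hνa.1.snd c.v).left.appTop.hom := by
    rw [← CommRingCat.hom_comp, ← Scheme.Hom.comp_appTop, ← Over.comp_left, Bun.γq]
  refine exists_relations B.q.left.appTop.hom B.π.hom ((hνa.1.pullback c.v).left.basicOpen b).ι.appTop.hom a
    (by rw [hab]; exact away_ι b)
    ((HasRingHomProperty.iff_of_isAffine (P := @LocallyOfFinitePresentation)).1 B.lfp) ?_ hsurj
  obtain ⟨ll, hll, hfac⟩ := hD
  haveI := hll
  haveI := hv
  have h := (HasRingHomProperty.iff_of_isAffine (P := @LocallyOfFinitePresentation)).1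
    (show LocallyOfFinitePresentation (((hνa.1.pullback c.v).left.basicOpen b).ι ≫ (hνa.1.snd c.v).left) by
      rw [hfac]; infer_instance)
  rw [Scheme.Hom.comp_appTop] at h
  rw [hq]
  exact h

set_option maxHeartbeats 1600000 in
/-- The main theorem. -/
theorem exists_open_into_finite {X Y : AlgSp.Space S} (f : X.obj ⟶ Y.obj)
    (hqf : LocP (@LocallyQuasiFinite ⊓ @LocallyOfFiniteType) f) (hqc : IsQuasiCompactMor f)
    (hsep : IsSeparatedMor f) (hYqc : IsQuasiCompactSp Y.obj) (hYqs : IsQuasiSeparatedSp Y.obj) :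
    ∃ (T : AlgSp.Space S) (j : X.obj ⟶ T.obj) (π : T.obj ⟶ Y.obj), j ≫ π = f ∧ RepWith @IsOpenImmersion j ∧
      IsQuasiCompactMor j ∧ IsFiniteMor π ∧ (LocP @LocallyOfFinitePresentation f → IsFinitePresentationMor π) := by
  classical
  have hqs : IsQuasiSeparatedMor f := repWith_mono (Q := (@QuasiCompact : MorphismProperty Scheme.{u}))
    (fun φ (_ : IsClosedImmersion φ) => inferInstanceAs (QuasiCompact φ)) hsep
  obtain ⟨X', ν, f', hX', hloc⟩ := exists_isLocNorm Y.property f hqc hqs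
  have hfo := isOpenImmersion_of_qf X.property Y.property hX' hloc hqc hsep hqf
  have hνi : RepWith @IsIntegralHom ν := Groth.L23.isIntegralMor_iff.1 hloc.integral
  have hνa : RepWith @IsAffineHom ν :=
    repWith_mono (fun φ (_ : IsIntegralHom φ) => inferInstanceAs (IsAffineHom φ)) hνi
  obtain ⟨b₀⟩ := nonempty_atlas Y hYqc hYqs
  let c : Chart Y.obj := atlasChart b₀
  have hcs : RepWith @Surjective c.v := surjective_atlasChart b₀
  obtain ⟨Idx, _, _, _, H, hgen⟩ := exists_bunSys hνa hYqc hYqs c hcs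
  choose T hT using hgen
  haveI : IsIntegralHom (hνa.1.snd c.v).left := repWith_snd hνi c.v
  haveI hXa : IsAffine (hνa.1.pullback c.v).left := isAffine_of_isAffineHom (hνa.1.snd c.v).left
  let P := hfo.1.pullback (hνa.1.fst c.v)
  let e : P ⟶ hνa.1.pullback c.v := hfo.1.snd (hνa.1.fst c.v)
  let aX : (yon S).obj P ⟶ X.obj := hfo.1.fst (hνa.1.fst c.v)
  haveI hee : IsOpenImmersion e.left := repWith_snd hfo _
  have sqP := (hfo.1.isPullback (hνa.1.fst c.v)).paste_vert (hνa.1.isPullback c.v)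
  rw [hloc.fac, ← Functor.map_comp] at sqP
  have haX : RepWith @Etale aX := repWith_of_isPullback sqP.flip c.etale
  haveI hPc : CompactSpace P.left := by
    haveI := compactSpace_of_qcSp (hqc (IsAlgSpace.yon_obj c.V) isQuasiCompactSp_of_compactSpace c.v aX _ sqP)
    exact (Points.schemeHomeo P).symm.compactSpace
  have hv := hqf aX c.v (e ≫ hνa.1.snd c.v) haX c.etale sqP.w
  -- standard opens
  obtain ⟨β, hβ⟩ : ∃ β : Finset Γ((hνa.1.pullback c.v).left, ⊤),
      e.left.opensRange = ⨆ k : β, (hνa.1.pullback c.v).left.basicOpen k.1 := by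
    obtain ⟨s, hs⟩ := (Opens.isBasis_iff_cover.1 (isBasis_basicOpen (hνa.1.pullback c.v).left)) e.left.opensRange
    obtain ⟨hs₁, hs₂⟩ := hs
    have hK : IsCompact (e.left.opensRange : Set (hνa.1.pullback c.v).left) := isCompact_range e.left.continuous
    obtain ⟨t, ht⟩ := hK.elim_finite_subcover (fun B : s => (B.1 : Set (hνa.1.pullback c.v).left))
      (fun B => B.1.isOpen) (fun x hx => by
        rw [hs₂] at hx
        obtain ⟨B, hB, hxB⟩ := Opens.mem_sSup.1 hx
        exact Set.mem_iUnion.2 ⟨⟨B, hB⟩, hxB⟩)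
    choose g hg using fun B : s => hs₁ B.2
    refine ⟨t.image g, le_antisymm (fun x hx => ?_) (iSup_le fun k => ?_)⟩
    · obtain ⟨B, hB, hxB⟩ : ∃ B ∈ t, x ∈ B.1 := by simpa using ht hx
      exact Opens.mem_iSup.2 ⟨⟨g B, Finset.mem_image_of_mem _ hB⟩, by rw [hg B]; exact hxB⟩
    · obtain ⟨B, -, hB⟩ := Finset.mem_image.1 k.2
      rw [hs₂, ← hB, hg B]
      exact le_sSup B.2
  have hDv : ∀ (k : β), ∃ ll : (((hνa.1.pullback c.v).left.basicOpen k.1 : Scheme.{u})) ⟶ P.left, IsOpenImmersion ll ∧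
      ((hνa.1.pullback c.v).left.basicOpen k.1).ι ≫ (hνa.1.snd c.v).left = ll ≫ (e ≫ hνa.1.snd c.v).left := fun k => by
    have hle : Set.range ((hνa.1.pullback c.v).left.basicOpen k.1).ι ⊆ Set.range e.left := by
      rw [Scheme.Opens.range_ι]
      exact (le_iSup (fun k : β => (hνa.1.pullback c.v).left.basicOpen k.1) k).trans hβ.ge
    refine ⟨IsOpenImmersion.lift e.left _ hle, ?_, ?_⟩
    · haveI : IsOpenImmersion (IsOpenImmersion.lift e.left _ hle ≫ e.left) := by
        rw [IsOpenImmersion.lift_fac]; infer_instance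
      exact IsOpenImmersion.of_comp _ e.left
    · rw [Over.comp_left, IsOpenImmersion.lift_fac_assoc]
  haveI hDa : ∀ k : β, IsAffine ((hνa.1.pullback c.v).left.basicOpen k.1 : Scheme.{u}) := fun k =>
    (isAffineOpen_top _).basicOpen _
  have hnum : ∀ k : β, ∃ G : Finset Γ((hνa.1.pullback c.v).left, ⊤), ∀ y, ∃ n : ℕ,
      k.1 ^ n * y ∈ Subring.closure (Set.range (hνa.1.snd c.v).left.appTop.hom ∪ (G : Set _)) := fun k => by
    refine exists_numerators _ ((hνa.1.pullback c.v).left.basicOpen k.1).ι.appTop.hom k.1 (away_ι k.1) ?_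
    obtain ⟨ll, hll, hfac⟩ := hDv k
    haveI := hll
    haveI : LocallyOfFiniteType (e ≫ hνa.1.snd c.v).left := hv.2
    have := (HasRingHomProperty.iff_of_isAffine (P := @LocallyOfFiniteType)).1
      (show LocallyOfFiniteType (((hνa.1.pullback c.v).left.basicOpen k.1).ι ≫ (hνa.1.snd c.v).left) by
        rw [hfac]; infer_instance)
    rwa [Scheme.Hom.comp_appTop] at this
  choose G hG using hnum
  obtain ⟨s, hs⟩ := exists_stage H (β ∪ Finset.univ.biUnion G)
  choose a ha using fun k : β => hs k.1 (Finset.mem_union_left _ k.2)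
  have hq : ∀ r, (H.B s).π.hom ((H.B s).q.left.appTop.hom r) = (hνa.1.snd c.v).left.appTop.hom r := fun r => by
    show ((H.B s).q.left.appTop ≫ (H.B s).γ.left.appTop).hom r = _
    rw [← Scheme.Hom.comp_appTop, ← Over.comp_left, Bun.γq]
  have hsurj : ∀ (k : β) y, ∃ (n : ℕ) (x : (H.B s).ring), (H.B s).π.hom x = (H.B s).π.hom (a k) ^ n * y :=
    fun k y => by
    obtain ⟨n, hn⟩ := hG k y
    have : Subring.closure (Set.range (hνa.1.snd c.v).left.appTop.hom ∪ (G k : Set _)) ≤ (H.B s).π.hom.range := by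
      rw [Subring.closure_le]
      rintro _ (⟨r, rfl⟩ | hg)
      · exact ⟨_, hq r⟩
      · exact hs _ (Finset.mem_union_right _ (Finset.mem_biUnion.2 ⟨k, Finset.mem_univ k, hg⟩))
    obtain ⟨x, hx⟩ := this hn
    exact ⟨n, x, by rw [hx, ha]⟩
  have hU : e.left.opensRange = ⨆ k, (hνa.1.pullback c.v).left.basicOpen ((H.B s).π.hom (a k)) := by
    simp only [ha]; exact hβ
  have hint : ∀ (x : (H.B s).ring), ∃ p : Polynomial Γ(c.V.left, ⊤), p.Monic ∧
      (H.B s).π.hom (p.eval₂ (H.B s).q.left.appTop.hom x) = 0 := fun x => by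
    obtain ⟨p, hp1, hp2⟩ :=
      ((HasAffineProperty.iff_of_isAffine (P := @IsIntegralHom)).1 ‹IsIntegralHom _›).2 ((H.B s).π.hom x)
    refine ⟨p, hp1, ?_⟩
    rw [Polynomial.hom_eval₂, ← CommRingCat.hom_comp, ← Scheme.Hom.comp_appTop, ← Over.comp_left, Bun.γq]
    exact hp2
  choose p hpm hpz using hint
  let D : Piece (H.B s) hfo :=
    { ι := β, hPc := hPc, a := a, hU := hU, hsurj := hsurj, T := T s, hT := hT s, p := p, hpm := hpm, hpz := hpz }
  by_cases hfp : LocP @LocallyOfFinitePresentation f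
  · have hvfp := hfp aX c.v (e ≫ hνa.1.snd c.v) haX c.etale sqP.w
    have hrel : ∀ k : β, ∃ t : Finset (H.B s).ring, (∀ x ∈ t, (H.B s).π.hom x = 0) ∧
        ∀ x, (H.B s).π.hom x = 0 → ∃ n : ℕ, a k ^ n * x ∈ Ideal.span (t : Set (H.B s).ring) := fun k =>
      exists_relations_of_lfp (H.B s) k.1 (a k) (ha k) (hDv k) hvfp (hsurj k)
    choose t ht₁ ht₂ using hrel
    obtain ⟨Z, j, π, h1, h2, h3, h4, h5⟩ := exists_finite_fp hYqs (H.B s) D t ht₁ ht₂
    exact ⟨Z, j, π, h1.trans hloc.fac, h2, h3, h4, fun _ => h5⟩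
  · obtain ⟨Z, j, π, h1, h2, h3, h4⟩ := exists_finite_ft (H.B s) D
    exact ⟨Z, j, π, h1.trans hloc.fac, h2, h3, h4, fun hl => absurd hl hfp⟩

end Groth.L23.ZMT
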